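import Groth.Agent.Coherent.FlatBaseChangeMain

/-!
# Base change of cohomology along a finite projective algebra, without quasi-compactness
-/

set_option autoImplicit false
set_option backward.isDefEq.respectTransparency false
set_option maxHeartbeats 1000000

universe u

open CategoryTheory CategoryTheory.Abelian CategoryTheory.Limits AlgebraicGeometry Opposite
  TopologicalSpace TensorProduct
open Groth.Agent.Coherent

namespace Groth.Agent.ProjBC14

variable {X X' : Scheme.{u}} (g : X' ⟶ X) {A B : Type u} [CommRing A] [CommRing B] [Algebra A B]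
  (φ : A →+* Γ(X, ⊤)) (β : B →+* Γ(X', ⊤)) (M : X.Modules)
  (hcomm : ∀ a, g.appTop (φ a) = β (algebraMap A B a))

local notation "FF" => Coh.toAb M
local notation "GG" => Coh.toAb (bcPush g M)

/-- `postH` as an additive function of the morphism. -/
noncomputable def postHHom {T : TopCat.{u}} {F G : Sheaf (Opens.grothendieckTopology T) AddCommGrpCat.{u}}
    (q : ℕ) (U : Opens T) (x : Ext (freeSh U) F q) : (F ⟶ G) →+ Ext (freeSh U) G q :=
  AddMonoidHom.mk' (fun ψ => postH ψ q U x) fun ψ ψ' => by
    rw [postH_apply, postH_apply, postH_apply, Ext.mk₀_add, Ext.comp_add]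

/-- `m ↦ b • (1 ⊗ m)`. -/
noncomputable def eta (b : B) : FF ⟶ GG := (toAbFunctor X).map (bcUnit g M) ≫ bcAct g β M b

/-- Contraction with a functional `B → A`. -/
noncomputable def contr (U : X.Opens) (q : ℕ) (e : B →ₗ[A] A) : B ⊗[A] HA φ M U q →ₗ[A] HA φ M U q :=
  (TensorProduct.lid A _).toLinearMap ∘ₗ e.rTensor (HA φ M U q)

theorem contr_tmul (U : X.Opens) (q : ℕ) (e : B →ₗ[A] A) (b : B) (x : HA φ M U q) :
    contr φ M U q e (b ⊗ₜ x) = e b • x := by simp [contr]

theorem contr_res {U V : X.Opens} (h : U ≤ V) (q : ℕ) (e : B →ₗ[A] A) (z : B ⊗[A] HA φ M V q) :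
    contr φ M U q e ((resA φ M h q).baseChange B z) = resA φ M h q (contr φ M V q e z) := by
  induction z using TensorProduct.induction_on with
  | zero => simp
  | add u v hu hv => simp only [map_add, hu, hv]
  | tmul b x => simp [contr_tmul]

section Affine

variable [IsAffineHom g] [Coh.IsQCoh M]

/-- There is a map of sheaves contracting with `e`. -/
theorem exists_contrHom (hp : ∀ U, IsAffineOpen U → IsBCPushout g φ β U) (e : B →ₗ[A] A) :
    ∃ ψ : GG ⟶ FF, ∀ (U : X.Opens), IsAffineOpen U → ∀ z : B ⊗[A] HA φ M U 0,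
      postH (X := X.toTopCat) ψ 0 U (bcMap g φ β M hcomm U 0 z) = contr φ M U 0 e z := by
  let T := fun U : X.affineOpens => LinearEquiv.ofBijective (bcMap g φ β M hcomm U.1 0)
    (bijective_bcMap_zero g φ β M hcomm U.2 (hp U.1 U.2))
  let f : ∀ U : X.affineOpens, (GG).obj.obj (op U.1) →+ (FF).obj.obj (op U.1) := fun U =>
    (secH (X := X.toTopCat) FF U.1).toAddMonoidHom.comp ((contr φ M U.1 0 e).toAddMonoidHom.comp
      ((T U).symm.toLinearMap.toAddMonoidHom.comp (secH (X := X.toTopCat) GG U.1).symm.toAddMonoidHom))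
  have hf : ∀ (U : X.affineOpens) (z : B ⊗[A] HA φ M U.1 0),
      f U (secH (X := X.toTopCat) GG U.1 (bcMap g φ β M hcomm U.1 0 z)) =
        secH (X := X.toTopCat) FF U.1 (contr φ M U.1 0 e z) := fun U z => by
    show secH (X := X.toTopCat) FF U.1 (contr φ M U.1 0 e ((T U).symm
      ((secH (X := X.toTopCat) GG U.1).symm _))) = _
    rw [AddEquiv.symm_apply_apply]
    exact congrArg (fun w => secH (X := X.toTopCat) FF U.1 (contr φ M U.1 0 e w)) ((T U).symm_apply_apply z)
  let B' : X.affineOpens → X.Opens := fun U => U.1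
  have hb : Opens.IsBasis (Set.range B') := by
    convert X.isBasis_affineOpens using 1
    exact Subtype.range_coe
  let α : (inducedFunctor B').op ⋙ (GG).obj ⟶ (inducedFunctor B').op ⋙ (FF).obj :=
    { app := fun U => AddCommGrpCat.ofHom (f U.unop)
      naturality := fun U V i => by
        refine ConcreteCategory.hom_ext _ _ fun a => ?_
        obtain ⟨y, rfl⟩ := (secH (X := X.toTopCat) GG U.unop.1).surjective a
        obtain ⟨z, hz⟩ := (bijective_bcMap_zero g φ β M hcomm U.unop.2 (hp U.unop.1 U.unop.2)).2 y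
        subst hz
        have h : V.unop.1 ≤ U.unop.1 := leOfHom i.unop.hom
        show f V.unop ((GG).obj.map (homOfLE h).op _) = (FF).obj.map (homOfLE h).op (f U.unop _)
        rw [← secH_resH (X := X.toTopCat) h, hf,
          show resH (X := X.toTopCat) GG 0 h (bcMap g φ β M hcomm U.unop.1 0 z) =
            bcMap g φ β M hcomm V.unop.1 0 ((resA φ M h 0).baseChange B z) from
            (bcMap_res g φ β M hcomm h 0 z).symm, hf, contr_res, ← secH_resH (X := X.toTopCat) h]
        rfl }
  refine ⟨⟨TopCat.Sheaf.restrictHomEquivHom (GG).obj FF hb α⟩, fun U hU z => ?_⟩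
  refine (secH (X := X.toTopCat) FF U).injective ((secH_postH (X := X.toTopCat) _ U _).trans ?_)
  refine (ConcreteCategory.congr_hom
    (TopCat.Sheaf.extend_hom_app (GG).obj FF hb α (⟨U, hU⟩ : X.affineOpens)) _).trans ?_
  exact hf ⟨U, hU⟩ z

omit [IsAffineHom g] [Coh.IsQCoh M] in
theorem postH_eta (b : B) (U : X.Opens) (q : ℕ) (x : HA φ M U q) :
    postH (X := X.toTopCat) (eta g β M b) q U x = bcMap g φ β M hcomm U q (b ⊗ₜ x) := by
  rw [bcMap, LinearMap.liftBaseChange_tmul]
  exact postH_comp (X := X.toTopCat) _ _ q U x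

/-- Maps of sheaves agree when they agree on the `H⁰` of affine opens. -/
theorem hom_ext_affine {F G : Sheaf (Opens.grothendieckTopology X.toTopCat) AddCommGrpCat.{u}} (a b : F ⟶ G)
    (h : ∀ (U : X.Opens), IsAffineOpen U → ∀ x, postH (X := X.toTopCat) a 0 U x = postH b 0 U x) : a = b := by
  refine Sheaf.hom_ext (TopCat.Sheaf.hom_ext F.obj G (B := fun U : X.affineOpens => (U.1 : X.Opens)) ?_ fun U => ?_)
  · rw [show Set.range (fun U : X.affineOpens => (U.1 : X.Opens)) = X.affineOpens from Subtype.range_coe]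
    exact X.isBasis_affineOpens
  · refine ConcreteCategory.hom_ext _ _ fun s => ?_
    obtain ⟨x, rfl⟩ := (secH (X := X.toTopCat) F U.1).surjective s
    rw [← secH_postH, ← secH_postH, h U.1 U.2]

/-- Base change along a finite projective algebra. -/
theorem bijective_bcMap [Module.Finite A B] [Module.Projective A B]
    (hp : ∀ U, IsAffineOpen U → IsBCPushout g φ β U) (U : X.Opens) (q : ℕ) :
    Function.Bijective (bcMap g φ β M hcomm U q) := by
  classical
  obtain ⟨n, f, hf⟩ := Module.Finite.exists_fin' A B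
  obtain ⟨s, hs⟩ := Module.projective_lifting_property f LinearMap.id hf
  let b : Fin n → B := fun j => f (Pi.single j 1)
  let e : Fin n → (B →ₗ[A] A) := fun j => LinearMap.proj j ∘ₗ s
  have hsum : ∀ v : B, ∑ j, e j v • b j = v := fun v => by
    conv_rhs => rw [← LinearMap.id_apply (R := A) v, ← hs, LinearMap.comp_apply,
      pi_eq_sum_univ' (s v)]
    rw [map_sum]
    exact Finset.sum_congr rfl fun j _ => (map_smul f _ _).symm
  have hdec : ∀ (V : X.Opens) (k : ℕ) (z : B ⊗[A] HA φ M V k), ∑ j, b j ⊗ₜ[A] contr φ M V k (e j) z = z := by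
    intro V k z
    induction z using TensorProduct.induction_on with
    | zero => simp
    | add u v hu hv => simp only [map_add, tmul_add, Finset.sum_add_distrib, hu, hv]
    | tmul c x =>
      conv_rhs => rw [← hsum c, sum_tmul]
      exact Finset.sum_congr rfl fun j _ => by rw [contr_tmul, tmul_smul, smul_tmul']
  choose ψ hψ using fun j => exists_contrHom g φ β M hcomm hp (e j)
  have h1 : ∀ j (c : B), eta g β M c ≫ ψ j = smulEndAb M (φ (e j c)) := fun j c => by
    refine hom_ext_affine _ _ fun V hV (x : HA φ M V 0) => ?_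
    rw [postH_comp, postH_eta g φ β M hcomm, hψ j V hV, contr_tmul]
    rfl
  have h2 : ∑ j, ψ j ≫ eta g β M (b j) = 𝟙 GG := by
    refine hom_ext_affine _ _ fun V hV y => ?_
    obtain ⟨z, rfl⟩ := (bijective_bcMap_zero g φ β M hcomm hV (hp V hV)).2 y
    rw [postH_id]
    refine ((map_sum (postHHom (T := X.toTopCat) 0 V (bcMap g φ β M hcomm V 0 z)) _ _).trans ?_)
    conv_rhs => rw [← hdec V 0 z, map_sum]
    refine Finset.sum_congr rfl fun j _ => ?_
    show postH (X := X.toTopCat) (ψ j ≫ eta g β M (b j)) 0 V _ = _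
    rw [postH_comp, hψ j V hV, postH_eta g φ β M hcomm]
  constructor
  · refine (injective_iff_map_eq_zero _).2 fun z hz => ?_
    have key : ∀ j, contr φ M U q (e j) z =
        postH (X := X.toTopCat) (ψ j) q U (bcMap g φ β M hcomm U q z) := fun j => by
      clear hz
      induction z using TensorProduct.induction_on with
      | zero => simp only [map_zero]
      | add u v hu hv => simp only [map_add, hu, hv]
      | tmul c x =>
        rw [← postH_eta g φ β M hcomm, ← postH_comp, h1, contr_tmul]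
        rfl
    rw [← hdec U q z]
    refine Finset.sum_eq_zero fun j _ => ?_
    rw [key j, hz, show postH (X := X.toTopCat) (ψ j) q U (0 : BCMod g M β U q) = 0 from map_zero _]
    exact tmul_zero _ _
  · intro y
    refine ⟨∑ j, b j ⊗ₜ[A] (show HA φ M U q from postH (X := X.toTopCat) (ψ j) q U y), ?_⟩
    rw [map_sum]
    refine Eq.trans ?_ (postH_id (X := X.toTopCat) q U y)
    rw [← h2]
    refine Eq.trans ?_ (map_sum (postHHom (T := X.toTopCat) q U y) _ _).symm
    refine Finset.sum_congr rfl fun j _ => ?_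
    rw [← postH_eta g φ β M hcomm]
    exact (postH_comp (X := X.toTopCat) _ _ q U y).symm

end Affine

section Final

variable [X.Over (Spec (CommRingCat.of A))] [X'.Over (Spec (CommRingCat.of B))] [Module.Finite A B]
  [Module.Projective A B]

theorem nonempty_proj_base_change [Coh.IsQCoh M]
    (h : IsPullback g (X' ↘ Spec (CommRingCat.of B)) (X ↘ Spec (CommRingCat.of A))
      (Spec.map (CommRingCat.ofHom (algebraMap A B)))) (i : ℕ) :
    Nonempty (B ⊗[A] Coh.HH X M i ≃ₗ[B] Coh.HH X' (bcSheaf g M) i) := by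
  have : IsAffineHom g := MorphismProperty.IsStableUnderBaseChange.of_isPullback
    (P := @IsAffineHom) h.flip inferInstance
  have : Coh.IsQCoh (bcSheaf g M) := EGA43.InjFibre.isQCoh_pullback g M
  let φ₀ := Coh.toGlobal (X ↘ Spec (CommRingCat.of A))
  let β₀ := Coh.toGlobal (X' ↘ Spec (CommRingCat.of B))
  have hc : ∀ a, g.appTop (φ₀ a) = β₀ (algebraMap A B a) := appTop_toGlobal g h
  let eM : Coh.HH X M i ≃ₗ[A] HA φ₀ M (⊤ : X.Opens) i :=
    { (HHLinEquiv M i).toAddEquiv with
      map_smul' := fun a x => (HHLinEquiv M i).map_smul (φ₀ a) x }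
  let eT := LinearEquiv.ofBijective (bcMap g φ₀ β₀ M hc ⊤ i)
    (bijective_bcMap g φ₀ β₀ M hc (fun U hU => isBCPushout_of_isPullback g h hU) ⊤ i)
  let eN : Coh.HH X' (bcSheaf g M) i ≃+ BCMod g M β₀ (⊤ : X.Opens) i :=
    (HHTopEquiv (bcSheaf g M) i).trans (H'AffinePushEquiv g (bcSheaf g M) ⊤ i)
  let eN' : Coh.HH X' (bcSheaf g M) i ≃ₗ[B] BCMod g M β₀ (⊤ : X.Opens) i :=
    { eN with
      map_smul' := fun b x => by
        obtain ⟨z, rfl⟩ := (HHTopEquiv (bcSheaf g M) i).symm.surjective x
        show eN ((β₀ b) • (HHTopEquiv (bcSheaf g M) i).symm z : Coh.HH X' (bcSheaf g M) i) =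
          b • eN ((HHTopEquiv (bcSheaf g M) i).symm z)
        rw [smul_HH_eq]
        simp only [eN, AddEquiv.trans_apply, AddEquiv.apply_symm_apply]
        exact H'PushEquiv_naturality (X := X'.toTopCat) (Y := X.toTopCat) (f := g.base)
          X.isBasis_affineOpens (acyclicOverBasis_affine g (bcSheaf g M))
          (acyclicOverBasis_affine g (bcSheaf g M)) (smulEndAb (bcSheaf g M) (β₀ b)) ⊤ i z }
  exact ⟨((LinearEquiv.baseChange A B _ _ eM).trans eT).trans eN'.symm⟩

end Final

end Groth.Agent.ProjBC14
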